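import Mathlib
import Groth.Prelude.Def_Conn
import Groth.Prelude.Def_W4swconnpcurvhiggsLogLam

/-! # The pieces `E_I` of a logarithmic λ-connection are `B`-submodules -/

set_option autoImplicit false
universe v u

open TensorProduct

noncomputable section

namespace Groth.Agent.LogPiece

variable {A : Type v} {B L E : Type u} [CommRing A] [CommRing B] [Algebra A B]
  [AddCommGroup L] [Module B L] [Module A L] [IsScalarTower A B L]
  [AddCommGroup E] [Module B E] [Module A E] [IsScalarTower A B E]
  (lam : B) {n : ℕ} (t : Fin n → B) (bΩ : Module.Basis (Fin n) B (KaehlerDifferential A B))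
  (hbΩ : ∀ i, bΩ i = KaehlerDifferential.D A B (t i))
  (ω : Module.Basis (Fin n) B L) (ι : KaehlerDifferential A B →ₗ[B] L)
  (hι : ∀ i, ι (KaehlerDifferential.D A B (t i)) = t i • ω i)
  (nabla : E →ₗ[A] E ⊗[B] L)
  (hc : Conn.IsLamConn (ι.compDer (KaehlerDifferential.D A B)) lam nabla)

/-- The `i`-th partial derivative. -/
def pd (i : Fin n) : Derivation A B B := (bΩ.coord i).compDer (KaehlerDifferential.D A B)

omit [IsScalarTower A B E] [Module A E] [AddCommGroup E] [Module B E] in
lemma pd_apply (i : Fin n) (b : B) : pd bΩ i b = bΩ.coord i (KaehlerDifferential.D A B b) := rfl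

include hbΩ in
omit [IsScalarTower A B E] [Module A E] [AddCommGroup E] [Module B E] in
lemma pd_t {i j : Fin n} (h : i ≠ j) : pd bΩ i (t j) = 0 := by
  rw [pd_apply, ← hbΩ j, Module.Basis.coord_apply, Module.Basis.repr_self, Finsupp.single_eq_of_ne h]

include hbΩ in
omit [IsScalarTower A B E] [Module A E] [AddCommGroup E] [Module B E] in
lemma pd_prod {i : Fin n} (s : Finset (Fin n)) (h : i ∉ s) : pd bΩ i (∏ j ∈ s, t j) = 0 := by
  classical
  induction s using Finset.induction with
  | empty => rw [Finset.prod_empty]; exact Derivation.map_one_eq_zero _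
  | insert a s ha ih =>
    rw [Finset.mem_insert, not_or] at h
    rw [Finset.prod_insert ha, Derivation.leibniz, ih h.2, pd_t t bΩ hbΩ h.1, smul_zero, smul_zero,
      add_zero]

include hbΩ hι hc in
lemma comp_smul (i : Fin n) (b : B) (x : E) :
    LogConn.comp nabla ω i (b • x) = b • LogConn.comp nabla ω i x + (t i * (lam * pd bΩ i b)) • x := by
  have hco : (ω.coord i).comp ι = t i • bΩ.coord i := bΩ.ext fun j => by
    rw [LinearMap.comp_apply, LinearMap.smul_apply, hbΩ j, hι j, map_smul, ← hbΩ j, Module.Basis.coord_apply,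
      Module.Basis.coord_apply, Module.Basis.repr_self, Module.Basis.repr_self]
    rcases eq_or_ne i j with h | h
    · subst h; simp
    · simp [Finsupp.single_eq_of_ne h]
  rw [LogConn.comp, Conn.along_apply, Conn.along_apply, hc b x, map_add, map_add, map_smul, map_smul,
    map_smul, map_smul, TensorProduct.map_tmul, TensorProduct.rid_tmul, LinearMap.id_apply]
  congr 1
  rw [show (ω.coord i) ((ι.compDer (KaehlerDifferential.D A B)) b) =
      ((ω.coord i).comp ι) (KaehlerDifferential.D A B b) from rfl, hco, LinearMap.smul_apply, smul_smul,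
      smul_eq_mul, ← pd_apply]
  congr 1
  ring

omit [Module A L] [IsScalarTower A B L] in
lemma compProd_empty : LogConn.compProd nabla ω ∅ = LinearMap.id := by
  simp [LogConn.compProd]

omit [Module A L] [IsScalarTower A B L] in
lemma compProd_insert {i : Fin n} {J : Finset (Fin n)} (h : ∀ j ∈ J, i < j) :
    LogConn.compProd nabla ω (insert i J) = LogConn.comp nabla ω i ∘ₗ LogConn.compProd nabla ω J := by
  classical
  have hi : i ∉ J := fun hi => lt_irrefl i (h i hi)
  rw [LogConn.compProd, Finset.sort_insert (r := (· ≤ ·)) (fun j hj => (h j hj).le) hi]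
  rfl

/-- The generating set attached to a set `P ⊆ E` of elements and a finite index set. -/
def genSpan (P : Set E) (I : Finset (Fin n)) : Submodule B E :=
  Submodule.span B (⋃ J ∈ I.powerset, (fun e => (∏ i ∈ I \ J, t i) • LogConn.compProd nabla ω J e) '' P)

omit [Module A L] [IsScalarTower A B L] in
lemma gen_mem {P : Set E} {I J : Finset (Fin n)} (hJ : J ⊆ I) {e : E} (he : e ∈ P) :
    (∏ i ∈ I \ J, t i) • LogConn.compProd nabla ω J e ∈ genSpan t ω nabla P I :=
  Submodule.subset_span (Set.mem_biUnion (Finset.mem_powerset.mpr hJ) ⟨e, he, rfl⟩)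

omit [Module A L] [IsScalarTower A B L] in
lemma smul_genSpan {P : Set E} {I J : Finset (Fin n)} (hJ : J ⊆ I) {y : E}
    (hy : y ∈ genSpan t ω nabla P J) : (∏ i ∈ I \ J, t i) • y ∈ genSpan t ω nabla P I := by
  classical
  induction hy using Submodule.span_induction with
  | mem y hy =>
    obtain ⟨K, hK, e, he, rfl⟩ := Set.mem_iUnion₂.mp hy
    have hK' := Finset.mem_powerset.mp hK
    rw [smul_smul, ← Finset.prod_union (Finset.disjoint_of_subset_right Finset.sdiff_subset
      Finset.sdiff_disjoint),
      show I \ J ∪ J \ K = I \ K from Finset.sdiff_union_sdiff_cancel hJ hK']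
    exact gen_mem t ω nabla (hK'.trans hJ) he
  | zero => rw [smul_zero]; exact zero_mem _
  | add x y _ _ hx hy => rw [smul_add]; exact add_mem hx hy
  | smul c x _ hx => rw [smul_comm]; exact Submodule.smul_mem _ c hx

include hbΩ hι hc in
lemma comp_genSpan {P : Set E} {J : Finset (Fin n)} {i : Fin n} (h : ∀ j ∈ J, i < j) {y : E}
    (hy : y ∈ genSpan t ω nabla P J) :
    LogConn.comp nabla ω i y ∈ genSpan t ω nabla P (insert i J) := by
  classical
  have hi : i ∉ J := fun hi => lt_irrefl i (h i hi)
  have hd : insert i J \ J = {i} := Finset.insert_sdiff_cancel hi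
  induction hy using Submodule.span_induction with
  | mem y hy =>
    obtain ⟨K, hK, e, he, rfl⟩ := Set.mem_iUnion₂.mp hy
    have hK' := Finset.mem_powerset.mp hK
    rw [comp_smul lam t bΩ hbΩ ω ι hι nabla hc,
      pd_prod t bΩ hbΩ _ fun h' => hi (Finset.sdiff_subset h'), mul_zero, mul_zero, zero_smul, add_zero,
      ← LinearMap.comp_apply, ← compProd_insert ω nabla fun j hj => h j (hK' hj)]
    have : insert i J \ insert i K = J \ K := by
      rw [Finset.insert_sdiff_of_mem _ (Finset.mem_insert_self i K), Finset.sdiff_insert_of_notMem hi]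
    rw [← this]
    exact gen_mem t ω nabla (Finset.insert_subset_insert i hK') he
  | zero => rw [map_zero]; exact zero_mem _
  | add x y _ _ hx hy => rw [map_add]; exact add_mem hx hy
  | smul c x hxm hx =>
    rw [comp_smul lam t bΩ hbΩ ω ι hι nabla hc]
    refine add_mem (Submodule.smul_mem _ c hx) ?_
    rw [mul_comm, ← smul_smul]
    have h2 := smul_genSpan t ω nabla (Finset.subset_insert i J) hxm
    rw [hd, Finset.prod_singleton] at h2
    exact Submodule.smul_mem _ _ h2

include hbΩ hι hc in
lemma compProd_mem {P : Set E} (J : Finset (Fin n)) {e : E} (he : e ∈ Submodule.span B P) :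
    LogConn.compProd nabla ω J e ∈ genSpan t ω nabla P J := by
  classical
  induction J using Finset.induction_on_min with
  | empty =>
    rw [compProd_empty, LinearMap.id_apply, genSpan]
    simpa [compProd_empty] using he
  | insert i J h ih =>
    rw [compProd_insert ω nabla h, LinearMap.comp_apply]
    exact comp_genSpan lam t bΩ hbΩ ω ι hι nabla hc h ih

include hbΩ hι hc in
lemma smul_mem_piece (I : Finset (Fin n)) (b : B) (x : E) (hx : x ∈ LogConn.piece nabla ω t I) :
    b • x ∈ LogConn.piece nabla ω t I := by
  classical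
  have key : ∀ J : Finset (Fin n), ∀ b : B, ∀ e : E,
      b • LogConn.compProd nabla ω J e ∈ LogConn.piece nabla ω t J := by
    intro J
    induction J using Finset.induction_on_min with
    | empty =>
      intro b e
      refine Submodule.mem_iSup_of_mem ∅ (Submodule.mem_iSup_of_mem (Finset.empty_mem_powerset _) ⟨b • e, ?_⟩)
      simp [compProd_empty]
    | insert i J h ih =>
      intro b e
      have hi : i ∉ J := fun hi => lt_irrefl i (h i hi)
      rw [compProd_insert ω nabla h, LinearMap.comp_apply,
        eq_sub_of_add_eq (comp_smul lam t bΩ hbΩ ω ι hι nabla hc i b _).symm, mul_smul]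
      refine sub_mem ?_ ?_
      · have h1 := ih b e
        generalize b • LogConn.compProd nabla ω J e = y at h1
        suffices LogConn.piece nabla ω t J ≤ (LogConn.piece nabla ω t (insert i J)).comap
            (LogConn.comp nabla ω i) from this h1
        refine iSup₂_le fun K hK => ?_
        rintro _ ⟨e', rfl⟩
        have hK' := Finset.mem_powerset.mp hK
        refine Submodule.mem_iSup_of_mem (insert i K)
          (Submodule.mem_iSup_of_mem (Finset.mem_powerset.mpr (Finset.insert_subset_insert i hK')) ⟨e', ?_⟩)
        have : insert i J \ insert i K = J \ K := by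
          rw [Finset.insert_sdiff_of_mem _ (Finset.mem_insert_self i K), Finset.sdiff_insert_of_notMem hi]
        rw [this]
        simp only [LinearMap.comp_apply, LinearMap.coe_restrictScalars, LinearMap.lsmul_apply]
        rw [comp_smul lam t bΩ hbΩ ω ι hι nabla hc,
          pd_prod t bΩ hbΩ _ fun h' => hi (Finset.sdiff_subset h'), mul_zero, mul_zero, zero_smul, add_zero,
          compProd_insert ω nabla fun j hj => h j (hK' hj), LinearMap.comp_apply]
      · have h1 := ih (lam * pd bΩ i b) e
        generalize (lam * pd bΩ i b) • LogConn.compProd nabla ω J e = y at h1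
        suffices LogConn.piece nabla ω t J ≤ (LogConn.piece nabla ω t (insert i J)).comap
            ((LinearMap.lsmul B E (t i)).restrictScalars A) from this h1
        refine iSup₂_le fun K hK => ?_
        rintro _ ⟨e', rfl⟩
        have hK' := Finset.mem_powerset.mp hK
        refine Submodule.mem_iSup_of_mem K
          (Submodule.mem_iSup_of_mem (Finset.mem_powerset.mpr (hK'.trans (Finset.subset_insert i J))) ⟨e', ?_⟩)
        rw [Finset.insert_sdiff_of_notMem _ (fun h' => hi (hK' h')),
          Finset.prod_insert fun h' => hi (Finset.sdiff_subset h')]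
        simp only [LinearMap.comp_apply, LinearMap.coe_restrictScalars, LinearMap.lsmul_apply, smul_smul]
  have hle : ∀ J ∈ I.powerset, LogConn.piece nabla ω t J ≤
      (LogConn.piece nabla ω t I).comap ((LinearMap.lsmul B E (∏ i ∈ I \ J, t i)).restrictScalars A) := by
    intro J hJ
    refine iSup₂_le fun K hK => ?_
    rintro _ ⟨e', rfl⟩
    have hK' := Finset.mem_powerset.mp hK
    have hJ' := Finset.mem_powerset.mp hJ
    refine Submodule.mem_iSup_of_mem K
      (Submodule.mem_iSup_of_mem (Finset.mem_powerset.mpr (hK'.trans hJ')) ⟨e', ?_⟩)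
    simp only [LinearMap.comp_apply, LinearMap.coe_restrictScalars, LinearMap.lsmul_apply, smul_smul]
    rw [← Finset.prod_union (Finset.disjoint_of_subset_right Finset.sdiff_subset Finset.sdiff_disjoint),
      show I \ J ∪ J \ K = I \ K from Finset.sdiff_union_sdiff_cancel hJ' hK']
  let M : Submodule A E := (LogConn.piece nabla ω t I).comap ((LinearMap.lsmul B E b).restrictScalars A)
  suffices hIM : LogConn.piece nabla ω t I ≤ M from hIM hx
  refine iSup₂_le fun J hJ => ?_
  rintro _ ⟨e, rfl⟩
  show b • ((∏ i ∈ I \ J, t i) • LogConn.compProd nabla ω J e) ∈ LogConn.piece nabla ω t I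
  rw [smul_comm]
  exact hle J hJ (key J b e)

end Groth.Agent.LogPiece
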