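import Groth.Agent.LogPiece.Flat
import Mathlib

/-! # Independence of the layers from the logarithmic coordinates -/

set_option autoImplicit false
universe v u

open TensorProduct

noncomputable section

namespace Groth.Agent.LogPiece

variable {A : Type v} {B L E : Type u} [CommRing A] [CommRing B] [Algebra A B]
  [AddCommGroup L] [Module B L] [Module A L] [IsScalarTower A B L]
  [AddCommGroup E] [Module B E] [Module A E] [IsScalarTower A B E]
  (lam : B) {n : ℕ} (t : Fin n → B) (bΩ : Module.Basis (Fin n) B (KaehlerDifferential A B))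
  (hbΩ : ∀ i, bΩ i = KaehlerDifferential.D A B (t i))
  (ω : Module.Basis (Fin n) B L) (ι : KaehlerDifferential A B →ₗ[B] L)
  (hι : ∀ i, ι (KaehlerDifferential.D A B (t i)) = t i • ω i)
  (nabla : E →ₗ[A] E ⊗[B] L)
  (hc : Conn.IsLamConn (ι.compDer (KaehlerDifferential.D A B)) lam nabla)

/-- The components commute as soon as the differential kills the basis one-forms. -/
lemma comp_comm_of_d_one (d : ∀ p : ℕ, ↥(⋀[B]^p L) →ₗ[A] ↥(⋀[B]^(p + 1) L))
    (nablas : ∀ p : ℕ, E ⊗[B] ↥(⋀[B]^p L) →ₗ[A] E ⊗[B] ↥(⋀[B]^(p + 1) L))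
    (hint : Conn.IsIntegrable nabla (fun p => lam • d p) nablas)
    (hd1 : ∀ a, d 1 (exteriorPower.ιMulti B 1 (fun _ => ω a)) = 0)
    (i j : Fin n) (e : E) :
    LogConn.comp nabla ω i (LogConn.comp nabla ω j e) = LogConn.comp nabla ω j (LogConn.comp nabla ω i e) := by
  classical
  wlog hij : i ≤ j generalizing i j
  · exact (this j i (le_of_not_ge hij)).symm
  rcases hij.eq_or_lt with h | h
  · rw [h]
  let g : Fin 2 ↪o Fin n := OrderEmbedding.ofStrictMono ![i, j] (by
    intro a b hab; fin_cases a <;> fin_cases b <;> simp_all)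
  let K : Set.powersetCard (Fin n) 2 := Set.powersetCard.ofFinEmbEquiv g
  have hK : Set.powersetCard.ofFinEmbEquiv.symm K = g := Equiv.symm_apply_apply _ _
  have h2 := congrArg (LogConn.coordE (E := E) ω 2 K) (hint.2 e)
  rw [map_zero, nabla_eq_sum ω nabla e, map_sum, map_sum] at h2
  simp_rw [Conn.toOne_tmul] at h2
  have hone : ∀ a : Fin n, (exteriorPower.oneEquiv B L).symm (ω a) =
      exteriorPower.ιMulti B 1 (fun _ => ω a) := fun a => by
    rw [LinearEquiv.symm_apply_eq, exteriorPower.oneEquiv_ιMulti]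
  have hb : ∀ (a : Fin n) (y : E), nablas 1 (y ⊗ₜ[B] exteriorPower.ιMulti B 1 (fun _ => ω a)) =
      ∑ b, LogConn.comp nabla ω b y ⊗ₜ[B] exteriorPower.ιMulti B 2 (Fin.cons (ω b) (fun _ => ω a)) := by
    intro a y
    rw [hint.1 1 y _, LinearMap.smul_apply, hd1, smul_zero, TensorProduct.tmul_zero, add_zero,
      nabla_eq_sum ω nabla y, map_sum, map_sum, LinearMap.sum_apply]
    exact Finset.sum_congr rfl fun b _ => by rw [Conn.toOne_tmul, Conn.twedge_tmul, wedge_ιMulti]
  simp_rw [hone, hb, map_sum, coordE_tmul, coord_ιMulti, hK, Matrix.det_fin_two] at h2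
  simp [g, Finsupp.single_apply, sub_smul, ite_smul, Finset.sum_sub_distrib] at h2
  exact sub_eq_zero.mp h2

variable (hcomm : ∀ (i j : Fin n) (e : E),
  LogConn.comp nabla ω i (LogConn.comp nabla ω j e) = LogConn.comp nabla ω j (LogConn.comp nabla ω i e))

include hcomm in
omit [Module A L] [IsScalarTower A B L] in
lemma compProd_comm (i : Fin n) (J : Finset (Fin n)) (e : E) :
    LogConn.comp nabla ω i (LogConn.compProd nabla ω J e) =
      LogConn.compProd nabla ω J (LogConn.comp nabla ω i e) := by
  classical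
  induction J using Finset.induction_on_min with
  | empty => simp [compProd_empty]
  | insert a J h ih =>
    rw [compProd_insert ω nabla h, LinearMap.comp_apply, LinearMap.comp_apply, hcomm, ih]

include hcomm in
omit [Module A L] [IsScalarTower A B L] in
lemma compProd_insert' {i : Fin n} (J : Finset (Fin n)) (hi : i ∉ J) (e : E) :
    LogConn.comp nabla ω i (LogConn.compProd nabla ω J e) = LogConn.compProd nabla ω (insert i J) e := by
  classical
  induction J using Finset.induction_on_min generalizing i with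
  | empty => rw [compProd_insert ω nabla (by simp), LinearMap.comp_apply]
  | insert a J h ih =>
    rw [Finset.mem_insert, not_or] at hi
    rcases lt_or_gt_of_ne hi.1 with hlt | hgt
    · rw [compProd_insert (i := i) ω nabla (J := insert a J)]
      · rfl
      · intro j hj
        rcases Finset.mem_insert.mp hj with rfl | hj
        · exact hlt
        · exact hlt.trans (h j hj)
    · rw [compProd_insert ω nabla h, LinearMap.comp_apply, hcomm, ih hi.2, Finset.insert_comm i a J,
        compProd_insert (i := a) ω nabla (J := insert i J)]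
      · rfl
      · intro j hj
        rcases Finset.mem_insert.mp hj with rfl | hj
        · exact hgt
        · exact h j hj

include hcomm in
omit [Module A L] [IsScalarTower A B L] in
lemma compProd_union (J J' : Finset (Fin n)) (h : Disjoint J J') (e : E) :
    LogConn.compProd nabla ω (J ∪ J') e = LogConn.compProd nabla ω J (LogConn.compProd nabla ω J' e) := by
  classical
  induction J using Finset.induction with
  | empty => simp [compProd_empty]
  | insert a J ha ih =>
    rw [Finset.disjoint_insert_left] at h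
    rw [Finset.insert_union, ← compProd_insert' ω nabla hcomm _ (by simp [ha, h.1]), ih h.2,
      compProd_insert' ω nabla hcomm J ha]

include hbΩ hι hc hcomm in
lemma comp_piece_self {a : Fin n} {I : Finset (Fin n)} {x : E} (hx : x ∈ LogConn.piece nabla ω t I) :
    LogConn.comp nabla ω a x ∈ LogConn.piece nabla ω t I := by
  classical
  suffices LogConn.piece nabla ω t I ≤ (LogConn.piece nabla ω t I).comap (LogConn.comp nabla ω a) from this hx
  refine iSup₂_le fun J hJ => ?_
  rintro _ ⟨e, rfl⟩
  simp only [Submodule.mem_comap, LinearMap.comp_apply, LinearMap.coe_restrictScalars, LinearMap.lsmul_apply]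
  rw [comp_smul lam t bΩ hbΩ ω ι hι nabla hc]
  refine add_mem ?_ ?_
  · exact Submodule.mem_iSup_of_mem J (Submodule.mem_iSup_of_mem hJ ⟨LogConn.comp nabla ω a e, by
      simp [compProd_comm ω nabla hcomm]⟩)
  · by_cases ha : a ∈ I \ J
    · rw [← Finset.mul_prod_erase _ _ ha, Derivation.leibniz,
        pd_prod t bΩ hbΩ _ (Finset.notMem_erase a _), smul_zero, zero_add, smul_eq_mul]
      have h1 : pd bΩ a (t a) = 1 := by
        rw [pd_apply, ← hbΩ a, Module.Basis.coord_apply, Module.Basis.repr_self, Finsupp.single_eq_same]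
      rw [h1, mul_one, show t a * (lam * ∏ x ∈ (I \ J).erase a, t x) =
        lam * (t a * ∏ x ∈ (I \ J).erase a, t x) by ring, Finset.mul_prod_erase _ _ ha, ← smul_smul]
      exact smul_mem_piece lam t bΩ hbΩ ω ι hι nabla hc _ _ _
        (Submodule.mem_iSup_of_mem J (Submodule.mem_iSup_of_mem hJ ⟨e, rfl⟩))
    · rw [pd_prod t bΩ hbΩ _ ha, mul_zero, mul_zero, zero_smul]
      exact zero_mem _

include hbΩ hι hc hcomm in
lemma comp_piece_insert {i : Fin n} {I : Finset (Fin n)} (hi : i ∉ I) {x : E}
    (hx : x ∈ LogConn.piece nabla ω t I) :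
    LogConn.comp nabla ω i x ∈ LogConn.piece nabla ω t (insert i I) := by
  classical
  suffices LogConn.piece nabla ω t I ≤ (LogConn.piece nabla ω t (insert i I)).comap
      (LogConn.comp nabla ω i) from this hx
  refine iSup₂_le fun J hJ => ?_
  rintro _ ⟨e, rfl⟩
  have hJ' := Finset.mem_powerset.mp hJ
  refine Submodule.mem_iSup_of_mem (insert i J)
    (Submodule.mem_iSup_of_mem (Finset.mem_powerset.mpr (Finset.insert_subset_insert i hJ')) ⟨e, ?_⟩)
  have : insert i I \ insert i J = I \ J := by
    rw [Finset.insert_sdiff_of_mem _ (Finset.mem_insert_self i J), Finset.sdiff_insert_of_notMem hi]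
  rw [this]
  simp only [LinearMap.comp_apply, LinearMap.coe_restrictScalars, LinearMap.lsmul_apply]
  rw [comp_smul lam t bΩ hbΩ ω ι hι nabla hc,
    pd_prod t bΩ hbΩ _ fun h' => hi (Finset.sdiff_subset h'), mul_zero, mul_zero, zero_smul, add_zero,
    compProd_insert' ω nabla hcomm J fun h' => hi (hJ' h')]

include hbΩ hι hc hcomm in
lemma smul_piece_insert {i : Fin n} {I : Finset (Fin n)} (hi : i ∉ I) {x : E}
    (hx : x ∈ LogConn.piece nabla ω t I) :
    t i • x ∈ LogConn.piece nabla ω t (insert i I) := by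
  classical
  suffices LogConn.piece nabla ω t I ≤ (LogConn.piece nabla ω t (insert i I)).comap
      ((LinearMap.lsmul B E (t i)).restrictScalars A) from this hx
  refine iSup₂_le fun J hJ => ?_
  rintro _ ⟨e, rfl⟩
  have hJ' := Finset.mem_powerset.mp hJ
  refine Submodule.mem_iSup_of_mem J
    (Submodule.mem_iSup_of_mem (Finset.mem_powerset.mpr (hJ'.trans (Finset.subset_insert i I))) ⟨e, ?_⟩)
  rw [Finset.insert_sdiff_of_notMem _ (fun h' => hi (hJ' h')),
    Finset.prod_insert fun h' => hi (Finset.sdiff_subset h')]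
  simp only [LinearMap.comp_apply, LinearMap.coe_restrictScalars, LinearMap.lsmul_apply, smul_smul]

variable (u : Fin n → Bˣ) (ω' : Module.Basis (Fin n) B L)
  (hω' : ∀ i, ω' i = ω i + ((u i)⁻¹ : Bˣ).val • ι (KaehlerDifferential.D A B (u i : B)))

include hbΩ hι hω' in
omit [AddCommGroup E] [Module B E] [Module A E] [IsScalarTower A B E] in
/-- The change of basis matrix is the identity modulo `t`. -/
lemma coord_change (a i : Fin n) :
    ∃ c, ω.coord a (ω' i) = (if a = i then 1 else 0) + t a * c := by
  refine ⟨((u i)⁻¹ : Bˣ).val * bΩ.coord a (KaehlerDifferential.D A B (u i : B)), ?_⟩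
  rw [hω', map_add, map_smul, ← LinearMap.comp_apply, coord_comp_iota t bΩ hbΩ ω ι hι,
    LinearMap.smul_apply, Module.Basis.coord_apply, Module.Basis.repr_self, smul_eq_mul, smul_eq_mul,
    Finsupp.single_apply]
  rcases eq_or_ne a i with h | h
  · subst h; simp; ring
  · simp [h, h.symm]; ring

include hbΩ hι hω' in
lemma comp_change (i : Fin n) (x : E) :
    ∃ b : Fin n → B, LogConn.comp nabla ω' i x =
      LogConn.comp nabla ω i x + t i • ∑ a, b a • LogConn.comp nabla ω a x := by
  choose c hc' using coord_change t bΩ hbΩ ω ι hι u ω' hω'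
  have h1 : ∀ a, LogConn.comp nabla ω a x =
      LogConn.comp nabla ω' a x + t a • ∑ j, c a j • LogConn.comp nabla ω' j x := by
    intro a
    conv_lhs => rw [LogConn.comp, Conn.along_apply, nabla_eq_sum ω' nabla x]
    simp only [map_sum, TensorProduct.map_tmul, TensorProduct.rid_tmul, LinearMap.id_apply, hc', add_smul,
      ite_smul, one_smul, zero_smul, Finset.sum_add_distrib, Finset.sum_ite_eq, Finset.mem_univ, if_true,
      Finset.smul_sum, smul_smul]
  refine ⟨fun a => -∑ j, c i j * ω'.coord j (ω a), ?_⟩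
  have h2 : ∀ j, LogConn.comp nabla ω' j x = ∑ a, ω'.coord j (ω a) • LogConn.comp nabla ω a x := by
    intro j
    conv_lhs => rw [LogConn.comp, Conn.along_apply, nabla_eq_sum ω nabla x]
    simp only [map_sum, TensorProduct.map_tmul, TensorProduct.rid_tmul, LinearMap.id_apply]
  have h3 : ∑ a, (-∑ j, c i j * ω'.coord j (ω a)) • LogConn.comp nabla ω a x =
      -∑ j, c i j • LogConn.comp nabla ω' j x := by
    simp_rw [h2, Finset.smul_sum, smul_smul, neg_smul, Finset.sum_smul, Finset.sum_neg_distrib]
    rw [Finset.sum_comm]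
  rw [h3, smul_neg, h1 i, add_neg_cancel_right]

include hbΩ hι hc hcomm hω' in
/-- One inclusion between the layers. -/
lemma layer_le (p : ℕ) :
    LogConn.layer nabla ω' (fun i => (u i : B) * t i) p ≤ LogConn.layer nabla ω t p := by
  classical
  have hB := smul_mem_piece lam t bΩ hbΩ ω ι hι nabla hc
  have hC : ∀ (J : Finset (Fin n)) (e : E),
      LogConn.compProd nabla ω' J e ∈ LogConn.piece nabla ω t J := by
    intro J e
    induction J using Finset.induction_on_min with
    | empty =>
      exact Submodule.mem_iSup_of_mem ∅ (Submodule.mem_iSup_of_mem (Finset.empty_mem_powerset _)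
        ⟨e, by simp [compProd_empty]⟩)
    | insert i J h ih =>
      have hi : i ∉ J := fun hi => lt_irrefl i (h i hi)
      rw [compProd_insert ω' nabla h, LinearMap.comp_apply]
      obtain ⟨b, hb⟩ := comp_change t bΩ hbΩ ω ι hι nabla u ω' hω' i (LogConn.compProd nabla ω' J e)
      rw [hb]
      refine add_mem (comp_piece_insert lam t bΩ hbΩ ω ι hι nabla hc hcomm hi ih) ?_
      exact smul_piece_insert lam t bΩ hbΩ ω ι hι nabla hc hcomm hi (Submodule.sum_mem _ fun a _ =>
        hB _ _ _ (comp_piece_self lam t bΩ hbΩ ω ι hι nabla hc hcomm ih))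
  have hP : ∀ K : Finset (Fin n), LogConn.piece nabla ω' (fun i => (u i : B) * t i) K ≤
      LogConn.piece nabla ω t K := by
    intro K
    refine iSup₂_le fun J hJ => ?_
    rintro _ ⟨e, rfl⟩
    have hJ' := Finset.mem_powerset.mp hJ
    simp only [LinearMap.comp_apply, LinearMap.coe_restrictScalars, LinearMap.lsmul_apply,
      Finset.prod_mul_distrib]
    rw [← smul_smul]
    refine hB _ _ _ ?_
    have h := hC J e
    generalize LogConn.compProd nabla ω' J e = y at h
    suffices LogConn.piece nabla ω t J ≤ (LogConn.piece nabla ω t K).comap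
        ((LinearMap.lsmul B E (∏ i ∈ K \ J, t i)).restrictScalars A) from this h
    refine iSup₂_le fun S hS => ?_
    rintro _ ⟨e', rfl⟩
    have hS' := Finset.mem_powerset.mp hS
    refine Submodule.mem_iSup_of_mem S
      (Submodule.mem_iSup_of_mem (Finset.mem_powerset.mpr (hS'.trans hJ')) ⟨e', ?_⟩)
    simp only [LinearMap.comp_apply, LinearMap.coe_restrictScalars, LinearMap.lsmul_apply, smul_smul]
    rw [← Finset.prod_union (Finset.disjoint_of_subset_right Finset.sdiff_subset Finset.sdiff_disjoint),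
      show K \ J ∪ J \ S = K \ S from Finset.sdiff_union_sdiff_cancel hJ' hS']
  intro x hx
  simp only [LogConn.layer, Submodule.mem_iInf, Submodule.mem_comap, LinearMap.coe_restrictScalars] at hx ⊢
  intro K'
  rw [← sum_coordE ω' p x, map_sum]
  refine Submodule.sum_mem _ fun K _ => ?_
  rw [coordE_tmul, exteriorPower.basis_apply, exteriorPower.ιMulti_family, coord_ιMulti]
  let ψ := Set.powersetCard.ofFinEmbEquiv.symm K
  let ψ' := Set.powersetCard.ofFinEmbEquiv.symm K'
  obtain ⟨c, hc'⟩ : (∏ i ∈ (K' : Finset (Fin n)) \ (K : Finset (Fin n)), t i) ∣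
      (Matrix.of fun i j => ω.coord (ψ' j) (ω' (ψ i))).det := by
    have hdvd : ∀ i j, (if ψ' j ∈ (K : Finset (Fin n)) then 1 else t (ψ' j)) ∣
        ω.coord (ψ' j) (ω' (ψ i)) := by
      intro i j
      split_ifs with h
      · exact one_dvd _
      · obtain ⟨c, hc'⟩ := coord_change t bΩ hbΩ ω ι hι u ω' hω' (ψ' j) (ψ i)
        rw [hc', if_neg, zero_add]
        · exact dvd_mul_right _ _
        · intro he
          exact h (he ▸ (Set.powersetCard.mem_range_ofFinEmbEquiv_symm_iff_mem K _).mp ⟨i, rfl⟩)
    have hprod : ∏ j, (if ψ' j ∈ (K : Finset (Fin n)) then 1 else t (ψ' j)) =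
        ∏ i ∈ (K' : Finset (Fin n)) \ (K : Finset (Fin n)), t i := by
      have hK : (K' : Finset (Fin n)) = Finset.univ.map ψ'.toEmbedding := by
        ext i
        rw [Finset.mem_map]
        refine ⟨fun hi => ?_, fun ⟨j, _, hj⟩ =>
          hj ▸ (Set.powersetCard.mem_range_ofFinEmbEquiv_symm_iff_mem K' _).mp ⟨j, rfl⟩⟩
        obtain ⟨j, hj⟩ := (Set.powersetCard.mem_range_ofFinEmbEquiv_symm_iff_mem K' _).mpr hi
        exact ⟨j, Finset.mem_univ _, hj⟩
      rw [hK, Finset.sdiff_eq_filter, Finset.prod_filter, Finset.prod_map]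
      exact Finset.prod_congr rfl fun j _ => by simp [ite_not]
    rw [← hprod, Matrix.det_apply]
    refine Finset.dvd_sum fun σ _ => ?_
    rw [Units.smul_def, zsmul_eq_mul]
    exact Dvd.dvd.mul_left (Finset.prod_dvd_prod_of_dvd _ _ fun j _ => hdvd (σ j) j) _
  show (Matrix.of fun i j => ω.coord (ψ' j) (ω' (ψ i))).det • LogConn.coordE ω' p K x ∈
    LogConn.piece nabla ω t (K' : Finset (Fin n))
  rw [hc', mul_comm, ← smul_smul]
  refine hB _ _ _ ?_
  have h := hP _ (hx K)
  generalize LogConn.coordE ω' p K x = y at h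
  suffices LogConn.piece nabla ω t (K : Finset (Fin n)) ≤
      (LogConn.piece nabla ω t (K' : Finset (Fin n))).comap ((LinearMap.lsmul B E
        (∏ i ∈ (K' : Finset (Fin n)) \ (K : Finset (Fin n)), t i)).restrictScalars A) from this h
  refine iSup₂_le fun S hS => ?_
  rintro _ ⟨e, rfl⟩
  have hS' := Finset.mem_powerset.mp hS
  show (∏ i ∈ (K' : Finset (Fin n)) \ (K : Finset (Fin n)), t i) •
    ((∏ i ∈ (K : Finset (Fin n)) \ S, t i) • LogConn.compProd nabla ω S e) ∈
      LogConn.piece nabla ω t (K' : Finset (Fin n))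
  rw [smul_smul,
    show S = (S ∩ (K' : Finset (Fin n))) ∪ (S \ (K' : Finset (Fin n))) by
      rw [Finset.union_comm]; exact (Finset.sdiff_union_inter _ _).symm,
    compProd_union ω nabla hcomm _ _ (Finset.disjoint_sdiff_inter _ _).symm]
  obtain ⟨b, hb⟩ : (∏ i ∈ (K' : Finset (Fin n)) \ (S ∩ (K' : Finset (Fin n))), t i) ∣
      (∏ i ∈ (K' : Finset (Fin n)) \ (K : Finset (Fin n)), t i) *
        ∏ i ∈ (K : Finset (Fin n)) \ S, t i := by
    rw [← Finset.prod_union (Finset.disjoint_of_subset_right Finset.sdiff_subset Finset.sdiff_disjoint)]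
    refine Finset.prod_dvd_prod_of_subset _ _ _ fun i hi => ?_
    simp only [Finset.mem_sdiff, Finset.mem_union, Finset.mem_inter] at hi ⊢
    tauto
  rw [show (S ∩ (K' : Finset (Fin n))) ∪ (S \ (K' : Finset (Fin n))) = S by
      rw [Finset.union_comm]; exact Finset.sdiff_union_inter _ _, hb, mul_comm, ← smul_smul]
  exact hB _ _ _ (Submodule.mem_iSup_of_mem (S ∩ (K' : Finset (Fin n)))
    (Submodule.mem_iSup_of_mem (Finset.mem_powerset.mpr Finset.inter_subset_right) ⟨_, rfl⟩))

end Groth.Agent.LogPiece
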