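import Groth.Agent.LogPiece.Layer
import Groth.Prelude.Def_LogDiff
import Mathlib

/-! # Flatness of a logarithmic λ-connection: commuting components -/

set_option autoImplicit false
universe v u

open TensorProduct

noncomputable section

namespace Groth.Agent.LogPiece

variable {A : Type v} {B L E : Type u} [CommRing A] [CommRing B] [Algebra A B]
  [AddCommGroup L] [Module B L] [Module A L] [IsScalarTower A B L]
  [AddCommGroup E] [Module B E] [Module A E] [IsScalarTower A B E]
  (lam : B) {n : ℕ} (t : Fin n → B) (bΩ : Module.Basis (Fin n) B (KaehlerDifferential A B))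
  (hbΩ : ∀ i, bΩ i = KaehlerDifferential.D A B (t i))
  (ω : Module.Basis (Fin n) B L) (ι : KaehlerDifferential A B →ₗ[B] L)
  (hι : ∀ i, ι (KaehlerDifferential.D A B (t i)) = t i • ω i)
  (nabla : E →ₗ[A] E ⊗[B] L)
  (hc : Conn.IsLamConn (ι.compDer (KaehlerDifferential.D A B)) lam nabla)
  (d : ∀ p : ℕ, ↥(⋀[B]^p L) →ₗ[A] ↥(⋀[B]^(p + 1) L))
  (hd : LogDiff.IsLogRule (KaehlerDifferential.D A B) ι (⇑ω) d)
  (nablas : ∀ p : ℕ, E ⊗[B] ↥(⋀[B]^p L) →ₗ[A] E ⊗[B] ↥(⋀[B]^(p + 1) L))
  (hint : Conn.IsIntegrable nabla (fun p => lam • d p) nablas)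

omit [Module A L] [IsScalarTower A B L] in
lemma nabla_eq_sum (m : E) : nabla m = ∑ i, LogConn.comp nabla ω i m ⊗ₜ[B] ω i := by
  have key : ∀ z : E ⊗[B] L,
      z = ∑ i, TensorProduct.rid B E (TensorProduct.map LinearMap.id (ω.coord i) z) ⊗ₜ[B] ω i := by
    intro z
    induction z using TensorProduct.induction_on with
    | zero => simp
    | tmul a l =>
      simp_rw [TensorProduct.map_tmul, TensorProduct.rid_tmul, LinearMap.id_apply, TensorProduct.smul_tmul]
      rw [← TensorProduct.tmul_sum]
      congr 1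
      exact (ω.sum_repr l).symm
    | add a b ha hb =>
      simp_rw [map_add, TensorProduct.add_tmul, Finset.sum_add_distrib]
      rw [← ha, ← hb]
  exact key (nabla m)

omit [Module A L] [IsScalarTower A B L] in
lemma wedge_ιMulti (p : ℕ) (w : L) (v : Fin p → L) :
    Conn.wedge p ((exteriorPower.oneEquiv B L).symm w) (exteriorPower.ιMulti B p v) =
      exteriorPower.ιMulti B (p + 1) (Fin.cons w v) := by
  have h1 : (exteriorPower.oneEquiv B L).symm w = exteriorPower.ιMulti B 1 ![w] := by
    rw [LinearEquiv.symm_apply_eq, exteriorPower.oneEquiv_ιMulti]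
    rfl
  rw [h1]
  refine Subtype.ext ?_
  rw [Conn.wedge_apply_coe]
  simp [exteriorPower.ιMulti_apply_coe, ExteriorAlgebra.ιMulti_apply, Matrix.vecTail, Function.comp_def]

include hd hint in
lemma nablas_basis (p : ℕ) (y : E) (f : Fin p → Fin n) :
    nablas p (y ⊗ₜ[B] exteriorPower.ιMulti B p (fun j => ω (f j))) =
      ∑ i, LogConn.comp nabla ω i y ⊗ₜ[B]
        exteriorPower.ιMulti B (p + 1) (Fin.cons (ω i) (fun j => ω (f j))) := by
  have h0 : d p (exteriorPower.ιMulti B p (fun j => ω (f j))) = 0 := by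
    have h := hd p 1 (fun j => ω (f j)) fun k => Or.inr ⟨f k, rfl⟩
    rw [one_smul] at h
    rw [h]
    exact (exteriorPower.ιMulti B (p + 1)).map_coord_zero 0 (by simp)
  rw [hint.1 p y _, LinearMap.smul_apply, h0, smul_zero, TensorProduct.tmul_zero, add_zero,
    nabla_eq_sum ω nabla y, map_sum, map_sum, LinearMap.sum_apply]
  refine Finset.sum_congr rfl fun i _ => ?_
  rw [Conn.toOne_tmul, Conn.twedge_tmul, wedge_ιMulti]

include hd hint in
lemma comp_comm (i j : Fin n) (e : E) :
    LogConn.comp nabla ω i (LogConn.comp nabla ω j e) = LogConn.comp nabla ω j (LogConn.comp nabla ω i e) := by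
  classical
  wlog hij : i ≤ j generalizing i j
  · exact (this j i (le_of_not_ge hij)).symm
  rcases hij.eq_or_lt with h | h
  · rw [h]
  let g : Fin 2 ↪o Fin n := OrderEmbedding.ofStrictMono ![i, j] (by
    intro a b hab; fin_cases a <;> fin_cases b <;> simp_all)
  let K : Set.powersetCard (Fin n) 2 := Set.powersetCard.ofFinEmbEquiv g
  have hK : Set.powersetCard.ofFinEmbEquiv.symm K = g := Equiv.symm_apply_apply _ _
  have h2 := congrArg (LogConn.coordE (E := E) ω 2 K) (hint.2 e)
  rw [map_zero, nabla_eq_sum ω nabla e, map_sum, map_sum] at h2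
  simp_rw [Conn.toOne_tmul] at h2
  have hone : ∀ a : Fin n, (exteriorPower.oneEquiv B L).symm (ω a) =
      exteriorPower.ιMulti B 1 (fun _ => ω a) := fun a => by
    rw [LinearEquiv.symm_apply_eq, exteriorPower.oneEquiv_ιMulti]
  simp_rw [hone, nablas_basis lam ω ι nabla d hd nablas hint 1, map_sum, coordE_tmul, coord_ιMulti, hK,
    Matrix.det_fin_two] at h2
  simp [g, Finsupp.single_apply, sub_smul, ite_smul, Finset.sum_sub_distrib] at h2
  exact sub_eq_zero.mp h2

include hd hint in
lemma comp_compProd {i : Fin n} (J : Finset (Fin n)) (hi : i ∉ J) (e : E) :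
    LogConn.comp nabla ω i (LogConn.compProd nabla ω J e) = LogConn.compProd nabla ω (insert i J) e := by
  classical
  induction J using Finset.induction_on_min generalizing i with
  | empty => rw [compProd_insert ω nabla (by simp), LinearMap.comp_apply]
  | insert a J h ih =>
    rw [Finset.mem_insert, not_or] at hi
    rcases lt_or_gt_of_ne hi.1 with hlt | hgt
    · rw [compProd_insert (i := i) ω nabla (J := insert a J)]
      · rfl
      · intro j hj
        rcases Finset.mem_insert.mp hj with rfl | hj
        · exact hlt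
        · exact hlt.trans (h j hj)
    · rw [compProd_insert ω nabla h, LinearMap.comp_apply,
        comp_comm lam ω ι nabla d hd nablas hint i a, ih hi.2, Finset.insert_comm i a J,
        compProd_insert (i := a) ω nabla (J := insert i J)]
      · rfl
      · intro j hj
        rcases Finset.mem_insert.mp hj with rfl | hj
        · exact hgt
        · exact h j hj

include hbΩ hι hc hd hint in
lemma comp_piece {i : Fin n} {I : Finset (Fin n)} (hi : i ∉ I) {x : E} (hx : x ∈ LogConn.piece nabla ω t I) :
    LogConn.comp nabla ω i x ∈ LogConn.piece nabla ω t (insert i I) := by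
  classical
  suffices LogConn.piece nabla ω t I ≤ (LogConn.piece nabla ω t (insert i I)).comap
      (LogConn.comp nabla ω i) from this hx
  refine iSup₂_le fun J hJ => ?_
  rintro _ ⟨e, rfl⟩
  have hJ' := Finset.mem_powerset.mp hJ
  refine Submodule.mem_iSup_of_mem (insert i J)
    (Submodule.mem_iSup_of_mem (Finset.mem_powerset.mpr (Finset.insert_subset_insert i hJ')) ⟨e, ?_⟩)
  have : insert i I \ insert i J = I \ J := by
    rw [Finset.insert_sdiff_of_mem _ (Finset.mem_insert_self i J), Finset.sdiff_insert_of_notMem hi]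
  rw [this]
  simp only [LinearMap.comp_apply, LinearMap.coe_restrictScalars, LinearMap.lsmul_apply]
  rw [comp_smul lam t bΩ hbΩ ω ι hι nabla hc,
    pd_prod t bΩ hbΩ _ fun h' => hi (Finset.sdiff_subset h'), mul_zero, mul_zero, zero_smul, add_zero,
    comp_compProd lam ω ι nabla d hd nablas hint J fun h' => hi (hJ' h')]

include hbΩ hι hc hd hint in
lemma nablas_mem_layer (p : ℕ) (x : E ⊗[B] ↥(⋀[B]^p L)) (hx : x ∈ LogConn.layer nabla ω t p) :
    nablas p x ∈ LogConn.layer nabla ω t (p + 1) := by
  classical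
  simp only [LogConn.layer, Submodule.mem_iInf, Submodule.mem_comap, LinearMap.coe_restrictScalars] at hx ⊢
  intro K'
  rw [← sum_coordE ω p x, map_sum, map_sum]
  refine Submodule.sum_mem _ fun K _ => ?_
  let ψ := Set.powersetCard.ofFinEmbEquiv.symm K
  have hψ : ω.exteriorPower p K = exteriorPower.ιMulti B p (fun j => ω (ψ j)) := by
    rw [exteriorPower.basis_apply, exteriorPower.ιMulti_family]; rfl
  rw [hψ, nablas_basis lam ω ι nabla d hd nablas hint p, map_sum]
  refine Submodule.sum_mem _ fun i _ => ?_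
  rw [coordE_tmul]
  have hcons : (Fin.cons (ω i) (fun j => ω (ψ j)) : Fin (p + 1) → L) =
      fun j => ω ((Fin.cons i ψ : Fin (p + 1) → Fin n) j) := by
    funext j; refine Fin.cases ?_ (fun j => ?_) j <;> simp
  rw [hcons]
  by_cases hiK : i ∈ (K : Finset (Fin n))
  · obtain ⟨j, hj⟩ := (Set.powersetCard.mem_range_ofFinEmbEquiv_symm_iff_mem K _).mpr hiK
    rw [(exteriorPower.ιMulti B (p + 1)).map_eq_zero_of_eq _ (i := 0) (j := j.succ)
      (by simp [ψ, hj]) (Fin.succ_ne_zero j).symm, map_zero, zero_smul]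
    exact zero_mem _
  by_cases hall : ∀ a, (Fin.cons i ψ : Fin (p + 1) → Fin n) a ∈ (K' : Finset (Fin n))
  · have hK' : (K' : Finset (Fin n)) = insert i (K : Finset (Fin n)) := by
      symm
      refine Finset.eq_of_subset_of_card_le (fun a ha => ?_) ?_
      · rcases Finset.mem_insert.mp ha with rfl | ha
        · simpa using hall 0
        · obtain ⟨j, rfl⟩ := (Set.powersetCard.mem_range_ofFinEmbEquiv_symm_iff_mem K _).mpr ha
          simpa [ψ] using hall j.succ
      · rw [Finset.card_insert_of_notMem hiK, show (K : Finset (Fin n)).card = p from K.prop,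
          show (K' : Finset (Fin n)).card = p + 1 from K'.prop]
    rw [hK']
    exact smul_mem_piece lam t bΩ hbΩ ω ι hι nabla hc _ _ _
      (comp_piece lam t bΩ hbΩ ω ι hι nabla hc d hd nablas hint hiK (hx K))
  · push Not at hall
    obtain ⟨a, ha⟩ := hall
    rw [coord_ιMulti, Matrix.det_eq_zero_of_row_eq_zero a fun j => ?_, zero_smul]
    · exact zero_mem _
    · rw [Matrix.of_apply, Module.Basis.coord_apply, Module.Basis.repr_self, Finsupp.single_eq_of_ne]
      intro he
      exact ha (he ▸ (Set.powersetCard.mem_range_ofFinEmbEquiv_symm_iff_mem K' _).mp ⟨j, rfl⟩)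

end Groth.Agent.LogPiece
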