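import Groth.Agent.LogPiece.Basic
import Mathlib

/-! # The layers of a logarithmic λ-connection: spans of generators -/

set_option autoImplicit false
universe v u

open TensorProduct

noncomputable section

namespace Groth.Agent.LogPiece

variable {A : Type v} {B L E : Type u} [CommRing A] [CommRing B] [Algebra A B]
  [AddCommGroup L] [Module B L]
  [AddCommGroup E] [Module B E] [Module A E] [IsScalarTower A B E]
  {n : ℕ} (t : Fin n → B) (bΩ : Module.Basis (Fin n) B (KaehlerDifferential A B))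
  (hbΩ : ∀ i, bΩ i = KaehlerDifferential.D A B (t i))
  (ω : Module.Basis (Fin n) B L) (ι : KaehlerDifferential A B →ₗ[B] L)
  (hι : ∀ i, ι (KaehlerDifferential.D A B (t i)) = t i • ω i)
  (nabla : E →ₗ[A] E ⊗[B] L)

omit [Module A E] [IsScalarTower A B E] in
lemma coordE_tmul (p : ℕ) (K : Set.powersetCard (Fin n) p) (y : E) (w : ↥(⋀[B]^p L)) :
    LogConn.coordE ω p K (y ⊗ₜ[B] w) = (ω.exteriorPower p).coord K w • y := by
  simp [LogConn.coordE]

omit [Module A E] [IsScalarTower A B E] in
lemma sum_coordE (p : ℕ) (x : E ⊗[B] ↥(⋀[B]^p L)) :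
    ∑ K : Set.powersetCard (Fin n) p, LogConn.coordE ω p K x ⊗ₜ[B] ω.exteriorPower p K = x := by
  induction x using TensorProduct.induction_on with
  | zero => simp
  | tmul y w =>
    simp_rw [coordE_tmul, TensorProduct.smul_tmul]
    rw [← TensorProduct.tmul_sum]
    congr 1
    exact (ω.exteriorPower p).sum_repr w
  | add a b ha hb => simp_rw [map_add, TensorProduct.add_tmul, Finset.sum_add_distrib, ha, hb]

/-- The coordinate `ω_K^*` as a determinant. -/
lemma coord_ιMulti (p : ℕ) (K : Set.powersetCard (Fin n) p) (v : Fin p → L) :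
    (ω.exteriorPower p).coord K (exteriorPower.ιMulti B p v) =
      (Matrix.of fun i j => ω.coord (Set.powersetCard.ofFinEmbEquiv.symm K j) (v i)).det := by
  rw [exteriorPower.basis_coord, exteriorPower.ιMultiDual_apply_ιMulti]

include hbΩ hι in
lemma coord_comp_iota (i : Fin n) : (ω.coord i).comp ι = t i • bΩ.coord i :=
  bΩ.ext fun j => by
    rw [LinearMap.comp_apply, LinearMap.smul_apply, hbΩ j, hι j, map_smul, ← hbΩ j,
      Module.Basis.coord_apply, Module.Basis.coord_apply, Module.Basis.repr_self, Module.Basis.repr_self]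
    rcases eq_or_ne i j with h | h
    · subst h; simp
    · simp [Finsupp.single_eq_of_ne h]

include hbΩ hι in
/-- The `ω_K`-coordinate of a generator is divisible by `t_{K ∖ I}`, and vanishes unless `I ⊆ K`. -/
lemma coord_gen {p : ℕ} (I : Finset (Fin n)) (hI : I.card ≤ p) (v : Fin p → L)
    (hv : ∀ (k : Fin p) (hk : k.val < I.card), v k = ω (I.orderEmbOfFin rfl ⟨k.val, hk⟩))
    (hv' : ∀ k : Fin p, I.card ≤ k.val → v k ∈ LinearMap.range ι) (K : Set.powersetCard (Fin n) p) :
    ((ω.exteriorPower p).coord K (exteriorPower.ιMulti B p v) = 0) ∨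
      (I ⊆ (K : Finset (Fin n)) ∧ ∃ c, (ω.exteriorPower p).coord K (exteriorPower.ιMulti B p v) =
        c * ∏ i ∈ (K : Finset (Fin n)) \ I, t i) := by
  classical
  rw [coord_ιMulti]
  let ψ := Set.powersetCard.ofFinEmbEquiv.symm K
  have hψ : ∀ j, ψ j ∈ (K : Finset (Fin n)) := fun j =>
    (Set.powersetCard.mem_range_ofFinEmbEquiv_symm_iff_mem K _).mp ⟨j, rfl⟩
  by_cases hIK : I ⊆ (K : Finset (Fin n))
  · refine Or.inr ⟨hIK, ?_⟩
    have hdvd : ∀ i j, (if ψ j ∈ I then 1 else t (ψ j)) ∣ ω.coord (ψ j) (v i) := by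
      intro i j
      split_ifs with h
      · exact one_dvd _
      · by_cases hi : i.val < I.card
        · rw [hv i hi, Module.Basis.coord_apply, Module.Basis.repr_self, Finsupp.single_eq_of_ne]
          · exact dvd_zero _
          · intro he; exact h (he ▸ Finset.orderEmbOfFin_mem I rfl ⟨i.val, hi⟩)
        · obtain ⟨η, hη⟩ := hv' i (not_lt.mp hi)
          rw [← hη, ← LinearMap.comp_apply, coord_comp_iota t bΩ hbΩ ω ι hι]
          exact dvd_mul_right _ _
    have hprod : ∏ j, (if ψ j ∈ I then 1 else t (ψ j)) = ∏ i ∈ (K : Finset (Fin n)) \ I, t i := by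
      have hK : (K : Finset (Fin n)) = Finset.univ.map ψ.toEmbedding := by
        ext i
        rw [Finset.mem_map]
        refine ⟨fun hi => ?_, fun ⟨j, _, hj⟩ => hj ▸ hψ j⟩
        obtain ⟨j, hj⟩ := (Set.powersetCard.mem_range_ofFinEmbEquiv_symm_iff_mem K _).mpr hi
        exact ⟨j, Finset.mem_univ _, hj⟩
      rw [hK, Finset.sdiff_eq_filter, Finset.prod_filter, Finset.prod_map]
      exact Finset.prod_congr rfl fun j _ => by simp [ite_not]
    rw [← hprod]
    obtain ⟨c, hc⟩ : (∏ j, (if ψ j ∈ I then 1 else t (ψ j))) ∣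
        (Matrix.of fun i j => ω.coord (ψ j) (v i)).det := by
      rw [Matrix.det_apply]
      refine Finset.dvd_sum fun σ _ => ?_
      rw [Units.smul_def, zsmul_eq_mul]
      exact Dvd.dvd.mul_left (Finset.prod_dvd_prod_of_dvd _ _ fun j _ => hdvd (σ j) j) _
    exact ⟨c, by rw [hc, mul_comm]⟩
  · refine Or.inl ?_
    obtain ⟨i, hi, hiK⟩ := Finset.not_subset.mp hIK
    obtain ⟨⟨b, hb⟩, rfl⟩ : i ∈ Set.range (I.orderEmbOfFin rfl) := by
      rw [Finset.range_orderEmbOfFin]; exact hi
    refine Matrix.det_eq_zero_of_row_eq_zero ⟨b, hb.trans_le hI⟩ fun j => ?_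
    rw [Matrix.of_apply, hv ⟨b, hb.trans_le hI⟩ hb, Module.Basis.coord_apply, Module.Basis.repr_self,
      Finsupp.single_eq_of_ne]
    intro he
    exact hiK (he ▸ hψ j)

omit [Module A E] [IsScalarTower A B E] in
/-- An `ω_K` is a signed exterior product of the `ω ∘ f` for any injective `f` enumerating `K`. -/
lemma basis_eq_sign (p : ℕ) (K : Set.powersetCard (Fin n) p) (f : Fin p → Fin n)
    (hf : Function.Injective f) (hfK : ∀ j, f j ∈ (K : Finset (Fin n))) :
    ∃ s : B, ω.exteriorPower p K = s • exteriorPower.ιMulti B p (fun j => ω (f j)) := by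
  classical
  let ψ := Set.powersetCard.ofFinEmbEquiv.symm K
  have hr : ∀ j, ∃ i, ψ i = f j := fun j =>
    (Set.powersetCard.mem_range_ofFinEmbEquiv_symm_iff_mem K _).mpr (hfK j)
  choose g hg using hr
  have hgi : Function.Injective g := fun a b h => hf (by rw [← hg, ← hg, h])
  let σ := Equiv.ofBijective g (Finite.injective_iff_bijective.mp hgi)
  have h : (fun j => ω (f j)) = (fun i => ω (ψ i)) ∘ σ := funext fun j => by simp [σ, hg]
  have h2 := (exteriorPower.ιMulti B p).map_perm (fun i => ω (ψ i)) σ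
  refine ⟨((Equiv.Perm.sign σ : ℤ) : B), ?_⟩
  rw [h, h2]
  have hb : ω.exteriorPower p K = exteriorPower.ιMulti B p (fun i => ω (ψ i)) := by
    rw [exteriorPower.basis_apply, exteriorPower.ιMulti_family]; rfl
  rw [hb]
  rcases Int.units_eq_one_or (Equiv.Perm.sign σ) with hu | hu <;> rw [hu] <;> simp

end Groth.Agent.LogPiece
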